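import Cfsg.Prelude
import Cfsg.Agent.Lib.Perm.AltBounded.Carmichael
import Cfsg.Agent.Lib.Perm.DoubleCoverLift
import Cfsg.Agent.Lib.Recog.FiM22.ReadOff

set_option autoImplicit false
set_option linter.style.haveILetI false
set_option linter.unusedSectionVars false

/-!
A non-split double cover of `A8` through six lifts of three-cycles (owner: helper25).
-/

namespace CfsgLib.Recog.McLCent

open Subgroup Equiv
open CfsgLib.Perm.AltBounded (cyc cyc_isThreeCycle cyc_apply_A cyc_apply_B cyc_apply_i cyc_apply_of_ne card_bound)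

/-- Six elements with Carmichael's relations up to a central involution. -/
structure Rels {C : Type*} [Group C] (x : ℕ → C) (z : C) : Prop where
  cube : ∀ i, i < 6 → x i * x i * x i = 1
  pair : ∀ i j, i ≠ j → i < 6 → j < 6 → x i * x j * (x i * x j) = z
  central : ∀ i, i < 6 → x i * z = z * x i
  sq : z * z = 1

/-- The subgroup generated by the six elements. -/
def gen6 {C : Type*} [Group C] (x : ℕ → C) : Subgroup C := closure (x '' Set.Iio 6)

/-- They generate at most `40320` elements. -/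
theorem card_le {C : Type*} [Group C] {x : ℕ → C} {z : C} (h : Rels x z) :
    Finite (gen6 x) ∧ Nat.card (gen6 x) ≤ 40320 := by
  classical
  have hx : ∀ i, i < 6 → x i ∈ gen6 x := fun i hi => subset_closure ⟨i, hi, rfl⟩
  have hz : z ∈ gen6 x := by
    rw [← h.pair 0 1 (by norm_num) (by norm_num) (by norm_num)]
    exact mul_mem (mul_mem (hx 0 (by norm_num)) (hx 1 (by norm_num)))
      (mul_mem (hx 0 (by norm_num)) (hx 1 (by norm_num)))
  have hc : ∀ g ∈ gen6 x, g * z = z * g := by
    intro g hg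
    have : gen6 x ≤ centralizer ({z} : Set C) := by
      refine (closure_le _).2 ?_
      rintro _ ⟨i, hi, rfl⟩
      exact mem_centralizer_singleton_iff.2 (h.central i hi)
    exact mem_centralizer_singleton_iff.1 (this hg)
  let z' : gen6 x := ⟨z, hz⟩
  let Z : Subgroup (gen6 x) := zpowers z'
  have hZc : Z ≤ center (gen6 x) := zpowers_le.2 (mem_center_iff.2 fun g => Subtype.ext (hc g.1 g.2))
  haveI : Z.Normal := ⟨fun n hn g => by
    rw [show g * n * g⁻¹ = n by rw [(mem_center_iff.1 (hZc hn)) g, mul_inv_cancel_right]]; exact hn⟩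
  have hz2 : z' * z' = 1 := Subtype.ext h.sq
  have hZfin : (Z : Set (gen6 x)) ⊆ {1, z'} := by
    rintro g hg
    obtain ⟨k, rfl⟩ := mem_zpowers_iff.1 hg
    have h2 : z' ^ (2 : ℤ) = 1 := by rw [zpow_two, hz2]
    rcases Int.even_or_odd k with ⟨m, rfl⟩ | ⟨m, rfl⟩
    · left; rw [← two_mul, zpow_mul, h2, one_zpow]
    · right; rw [Set.mem_singleton_iff, zpow_add_one, zpow_mul, h2, one_zpow, one_mul]
  haveI : Finite Z := ((Set.toFinite ({1, z'} : Set (gen6 x))).subset hZfin).to_subtype
  have hZcard : Nat.card Z ≤ 2 := by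
    rw [← SetLike.coe_sort_coe, Nat.card_coe_set_eq]
    exact (Set.ncard_le_ncard hZfin).trans ((Set.ncard_insert_le _ _).trans (by simp))
  let y : Fin 6 → (gen6 x) ⧸ Z := fun i => ((⟨x i, hx i i.2⟩ : gen6 x) : (gen6 x) ⧸ Z)
  obtain ⟨hfin, hcard⟩ := card_bound (x := y) (fun i => by
      show ((⟨x i, hx i i.2⟩ * ⟨x i, hx i i.2⟩ * ⟨x i, hx i i.2⟩ : gen6 x) : (gen6 x) ⧸ Z) = 1
      rw [QuotientGroup.eq_one_iff]
      rw [show (⟨x i, hx i i.2⟩ * ⟨x i, hx i i.2⟩ * ⟨x i, hx i i.2⟩ : gen6 x) = 1 from Subtype.ext (h.cube i i.2)]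
      exact one_mem Z)
    (fun i j hij => by
      show ((⟨x i, hx i i.2⟩ * ⟨x j, hx j j.2⟩ * (⟨x i, hx i i.2⟩ * ⟨x j, hx j j.2⟩) : gen6 x) : (gen6 x) ⧸ Z) = 1
      rw [QuotientGroup.eq_one_iff, show (⟨x i, hx i i.2⟩ * ⟨x j, hx j j.2⟩ * (⟨x i, hx i i.2⟩ * ⟨x j, hx j j.2⟩) :
        gen6 x) = z' from Subtype.ext (h.pair i j (fun e => hij (Fin.ext e)) i.2 j.2)]
      exact mem_zpowers z') Finset.univ
  have htop : closure (y '' ((Finset.univ : Finset (Fin 6)) : Set (Fin 6))) = ⊤ := by
    have e : y '' ((Finset.univ : Finset (Fin 6)) : Set (Fin 6)) =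
        QuotientGroup.mk' Z '' ((↑) ⁻¹' (x '' Set.Iio 6) : Set (gen6 x)) := by
      ext q
      simp only [Finset.coe_univ, Set.image_univ, Set.mem_range, Set.mem_image, Set.mem_preimage, Set.mem_Iio]
      constructor
      · rintro ⟨i, rfl⟩
        exact ⟨⟨x i, hx i i.2⟩, ⟨i, i.2, rfl⟩, rfl⟩
      · rintro ⟨g, ⟨i, hi, hg⟩, rfl⟩
        exact ⟨⟨i, hi⟩, congrArg _ (Subtype.ext hg)⟩
    rw [e, ← MonoidHom.map_closure]
    rw [show closure ((↑) ⁻¹' (x '' Set.Iio 6) : Set (gen6 x)) = ⊤ from closure_closure_coe_preimage,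
      map_top_of_surjective _ (QuotientGroup.mk'_surjective Z)]
  rw [htop, Finset.card_univ, Fintype.card_fin] at hcard
  rw [htop] at hfin
  haveI : Finite ((gen6 x) ⧸ Z) := Finite.of_equiv _ Subgroup.topEquiv.toEquiv
  rw [Nat.card_congr Subgroup.topEquiv.toEquiv, show Nat.factorial (6 + 2) = 40320 from rfl] at hcard
  haveI hfinG : Finite (gen6 x) := Finite.of_subgroup_quotient Z
  refine ⟨hfinG, ?_⟩
  rw [Z.card_eq_card_quotient_mul_card_subgroup]
  calc Nat.card ((gen6 x) ⧸ Z) * Nat.card Z ≤ Nat.card ((gen6 x) ⧸ Z) * 2 := Nat.mul_le_mul_left _ hZcard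
    _ ≤ 40320 := by omega

variable {C : Type*} [Group C] [Finite C]

theorem card_eq (h : Cfsg.IsNonsplitDoubleCover C (alternatingGroup (Fin 8))) : Nat.card C = 40320 := by
  obtain ⟨h2, ⟨e⟩, -⟩ := h
  rw [(center C).card_eq_card_quotient_mul_card_subgroup, h2, Nat.card_congr e.toEquiv,
    nat_card_alternatingGroup, Nat.card_eq_fintype_card, Fintype.card_fin]
  rfl

theorem normal_eq_bot (h : Cfsg.IsNonsplitDoubleCover C (alternatingGroup (Fin 8))) {t : C} (ht : t ≠ 1)
    (htc : t ∈ center C) {N : Subgroup C} [N.Normal] (htN : t ∉ N) : N = ⊥ := by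
  obtain ⟨e⟩ := h.2.1
  let π : C →* alternatingGroup (Fin 8) := e.toMonoidHom.comp (QuotientGroup.mk' _)
  have hπ : Function.Surjective π := e.surjective.comp (QuotientGroup.mk'_surjective _)
  have hker : π.ker = center C := by ext y; simp [π, QuotientGroup.eq_one_iff]
  haveI := Subgroup.Normal.map (inferInstance : N.Normal) π hπ
  haveI : IsSimpleGroup (alternatingGroup (Fin 8)) := alternatingGroup.isSimpleGroup (by simp)
  rcases (inferInstance : (N.map π).Normal).eq_bot_or_eq_top with hb | hb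
  · refine (Subgroup.eq_bot_iff_forall _).2 fun x hx => ?_
    have hxc : x ∈ center C := hker ▸ (MonoidHom.mem_ker.2 (mem_bot.1 (hb ▸ mem_map_of_mem π hx)))
    obtain ⟨w, -, hw⟩ := (Nat.card_eq_two_iff' (1 : center C)).1 h.1
    by_contra hne
    have e1 := hw ⟨x, hxc⟩ fun e => hne (congrArg Subtype.val e)
    have e2 := hw ⟨t, htc⟩ fun e => ht (congrArg Subtype.val e)
    rw [show x = t from congrArg Subtype.val (e1.trans e2.symm)] at hx
    exact htN hx
  · refine absurd ?_ htN
    rw [CfsgLib.Recog.FiM22.supplement_eq_top h (P := N) (eq_top_iff.2 fun c _ => ?_)]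
    · exact mem_top t
    obtain ⟨m, hm, he⟩ := mem_map.1 (hb ▸ mem_top (π c) : π c ∈ N.map π)
    have : m⁻¹ * c ∈ center C := by rw [← hker, MonoidHom.mem_ker, map_mul, map_inv, he, inv_mul_cancel]
    rw [show c = m * (m⁻¹ * c) by group]
    exact mul_mem (mem_sup_left hm) (mem_sup_right this)

theorem pair_type : ∀ i j : Fin 6, i ≠ j →
    (cyc (0 : Fin 8) 1 ⟨i.1 + 2, by omega⟩ * cyc (0 : Fin 8) 1 ⟨j.1 + 2, by omega⟩).cycleType = {2, 2} := by
  decide +kernel

/-- A non-split double cover of `A8` has six lifts of three-cycles generating it. -/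
theorem exists_lifts (h : Cfsg.IsNonsplitDoubleCover C (alternatingGroup (Fin 8))) {t : C} (ht : t ≠ 1)
    (htc : t ∈ center C) : ∃ x : ℕ → C, Rels x t ∧ gen6 x = ⊤ := by
  classical
  obtain ⟨e⟩ := h.2.1
  let π : C →* alternatingGroup (Fin 8) := e.toMonoidHom.comp (QuotientGroup.mk' _)
  have hπ : Function.Surjective π := e.surjective.comp (QuotientGroup.mk'_surjective _)
  have hker : π.ker = center C := by ext y; simp [π, QuotientGroup.eq_one_iff]
  have h2 : ∀ w ∈ center C, w = 1 ∨ w = t := fun w hw => by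
    obtain ⟨v, -, hv⟩ := (Nat.card_eq_two_iff' (1 : center C)).1 h.1
    rcases eq_or_ne w 1 with e | e
    · exact Or.inl e
    have e1 := hv ⟨w, hw⟩ fun e' => e (congrArg Subtype.val e')
    have e2 := hv ⟨t, htc⟩ fun e' => ht (congrArg Subtype.val e')
    exact Or.inr (congrArg Subtype.val (e1.trans e2.symm))
  have hsq : ∀ w ∈ center C, w * w = 1 := fun w hw => by
    have hd := (center C).orderOf_dvd_natCard hw
    rw [h.1] at hd
    rw [← sq]; exact orderOf_dvd_iff_pow_eq_one.1 hd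
  have hperf : commutator C = ⊤ := by
    refine CfsgLib.Recog.FiM22.supplement_eq_top h (eq_top_iff.2 fun c _ => ?_)
    haveI : IsSimpleGroup (alternatingGroup (Fin 8)) := alternatingGroup.isSimpleGroup (by simp)
    have hA : _root_.commutator (alternatingGroup (Fin 8)) = ⊤ := by
      refine (inferInstance : (_root_.commutator (alternatingGroup (Fin 8))).Normal).eq_bot_or_eq_top.resolve_left
        fun hb => ?_
      have hab := commutatorElement_eq_one_iff_mul_comm.1 (mem_bot.1 (((_root_.commutator_def _).symm.trans hb) ▸ Subgroup.commutator_mem_commutator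
        (mem_top (⟨cyc (0 : Fin 8) 1 2, (cyc_isThreeCycle (by decide) (by decide) (by decide)).mem_alternatingGroup⟩ :
          alternatingGroup (Fin 8)))
        (mem_top (⟨cyc (0 : Fin 8) 1 3, (cyc_isThreeCycle (by decide) (by decide) (by decide)).mem_alternatingGroup⟩ :
          alternatingGroup (Fin 8)))))
      have hab' := congrArg Subtype.val hab
      revert hab'
      decide +kernel
    have hm : (commutator C).map π = ⊤ := by
      rw [← hA, _root_.commutator_def, map_commutator, map_top_of_surjective _ hπ, ← _root_.commutator_def]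
    obtain ⟨m, hm, he⟩ := mem_map.1 (hm ▸ mem_top (π c) : π c ∈ (commutator C).map π)
    have : m⁻¹ * c ∈ center C := by rw [← hker, MonoidHom.mem_ker, map_mul, map_inv, he, inv_mul_cancel]
    rw [show c = m * (m⁻¹ * c) by group]
    exact mul_mem (mem_sup_left hm) (mem_sup_right this)
  let cy : Fin 6 → alternatingGroup (Fin 8) := fun i => ⟨cyc (0 : Fin 8) 1 ⟨i.1 + 2, by omega⟩,
    (cyc_isThreeCycle (by decide) (by intro e; have := congrArg Fin.val e; simp at this)
      (by intro e; have := congrArg Fin.val e; simp at this)).mem_alternatingGroup⟩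
  have cy3 : ∀ i, cy i * cy i * cy i = 1 := by decide +kernel
  have hex : ∀ i : Fin 6, ∃ a : C, π a = cy i ∧ a * a * a = 1 := by
    intro i
    obtain ⟨y, hy⟩ := hπ (cy i)
    have hy3 : y * y * y ∈ center C := by
      rw [← hker, MonoidHom.mem_ker, map_mul, map_mul, hy, cy3]
    refine ⟨y * y * y * y, by rw [map_mul, MonoidHom.mem_ker.1 (hker ▸ hy3), one_mul, hy], ?_⟩
    calc y * y * y * y * (y * y * y * y) * (y * y * y * y)
        = (y * y * y) * (y * y * y) * ((y * y * y) * (y * y * y)) := by group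
      _ = 1 := by rw [hsq _ hy3, one_mul]
  choose a ha ha3 using hex
  let x : ℕ → C := fun i => if hi : i < 6 then a ⟨i, hi⟩ else 1
  have hx : ∀ i (hi : i < 6), x i = a ⟨i, hi⟩ := fun i hi => dif_pos hi
  have hpair : ∀ i j : Fin 6, i ≠ j → a i * a j * (a i * a j) = t := by
    intro i j hij
    have htype : (π (a i * a j) : Equiv.Perm (Fin 8)).cycleType = {2, 2} := by
      rw [map_mul, ha, ha]; exact pair_type i j hij
    refine (h2 _ ?_).resolve_left (CfsgLib.Perm.DoubleCoverLift.sq_ne_one 8 (by norm_num) π hπ hker.le hperf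
      (by rw [hker]; exact h.1) _ htype)
    rw [← hker, MonoidHom.mem_ker, map_mul, map_mul, ha, ha]
    exact (show ∀ i j : Fin 6, i ≠ j → cy i * cy j * (cy i * cy j) = 1 by decide +kernel) i j hij
  refine ⟨x, ⟨fun i hi => by rw [hx i hi]; exact ha3 _, fun i j hij hi hj => by
      rw [hx i hi, hx j hj]; exact hpair _ _ fun e => hij (congrArg Fin.val e),
    fun i _ => mem_center_iff.1 htc _, hsq t htc⟩, ?_⟩
  refine CfsgLib.Recog.FiM22.supplement_eq_top h (eq_top_iff.2 fun c _ => ?_)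
  have hm : (gen6 x).map π = ⊤ := by
    rw [gen6, MonoidHom.map_closure, eq_top_iff]
    intro u _
    have hcl := CfsgLib.Perm.AltBounded.closure_base (Finset.univ : Finset (Fin 8)) (A := 0) (B := 1)
      (Finset.mem_univ _) (Finset.mem_univ _) (by decide)
    have hu : (u : Equiv.Perm (Fin 8)) ∈ CfsgLib.Perm.AltBounded.altOn (Finset.univ : Finset (Fin 8)) := by
      rw [CfsgLib.Perm.AltBounded.altOn_univ]; exact u.2
    rw [← hcl] at hu
    have key : (closure (π '' (x '' Set.Iio 6))).map (alternatingGroup (Fin 8)).subtype ≥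
        closure {g | ∃ i ∈ (Finset.univ : Finset (Fin 8)), i ≠ 0 ∧ i ≠ 1 ∧ g = cyc 0 1 i} := by
      refine (closure_le _).2 ?_
      rintro g ⟨i, -, hi0, hi1, rfl⟩
      have hv : 2 ≤ i.1 := by
        rcases i with ⟨v, hv⟩
        simp only [ne_eq, Fin.ext_iff] at hi0 hi1
        simp at hi0 hi1 ⊢; omega
      refine ⟨cy ⟨i.1 - 2, by omega⟩, subset_closure ⟨x (i.1 - 2), ⟨_, Set.mem_Iio.2 (by omega), rfl⟩, ?_⟩, ?_⟩
      · rw [hx _ (by omega), ha]
      · show cyc (0 : Fin 8) 1 ⟨i.1 - 2 + 2, _⟩ = cyc 0 1 i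
        congr 1; exact Fin.ext (by simp; omega)
    obtain ⟨v, hv, hvu⟩ := key hu
    rwa [show u = v from Subtype.ext hvu.symm]
  obtain ⟨m, hm, he⟩ := mem_map.1 (hm ▸ mem_top (π c) : π c ∈ (gen6 x).map π)
  have : m⁻¹ * c ∈ center C := by rw [← hker, MonoidHom.mem_ker, map_mul, map_inv, he, inv_mul_cancel]
  rw [show c = m * (m⁻¹ * c) by group]
  exact mul_mem (mem_sup_left hm) (mem_sup_right this)

/-- A model with the same relations receives an injective map. -/
theorem exists_hom (h : Cfsg.IsNonsplitDoubleCover C (alternatingGroup (Fin 8))) {t : C} (ht : t ≠ 1)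
    (htc : t ∈ center C) {x : ℕ → C} (hx : Rels x t) (hgen : gen6 x = ⊤) {M : Type*} [Group M] {m : ℕ → M}
    {z : M} (hm : Rels m z) (hz : z ≠ 1) :
    ∃ ψ : C →* M, Function.Injective ψ ∧ ∀ i < 6, ψ (x i) = m i := by
  let y : ℕ → C × M := fun i => (x i, m i)
  have hy : Rels y (t, z) := ⟨fun i hi => Prod.ext (hx.cube i hi) (hm.cube i hi),
    fun i j h hi hj => Prod.ext (hx.pair i j h hi hj) (hm.pair i j h hi hj),
    fun i hi => Prod.ext (hx.central i hi) (hm.central i hi), Prod.ext hx.sq hm.sq⟩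
  obtain ⟨hfin, hle⟩ := card_le hy
  let p : gen6 y →* C := (MonoidHom.fst C M).comp (gen6 y).subtype
  have hsurj : Function.Surjective p := by
    rw [← MonoidHom.range_eq_top, eq_top_iff, ← hgen, gen6, closure_le]
    rintro _ ⟨i, hi, rfl⟩
    exact ⟨⟨y i, subset_closure ⟨i, hi, rfl⟩⟩, rfl⟩
  have hinj : Function.Injective p := by
    refine ((Nat.bijective_iff_surjective_and_card p).2 ⟨hsurj, ?_⟩).1
    have := Nat.card_le_card_of_surjective p hsurj
    rw [card_eq h] at this ⊢
    omega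
  let e : gen6 y ≃* C := MulEquiv.ofBijective p ⟨hinj, hsurj⟩
  let ψ : C →* M := ((MonoidHom.snd C M).comp (gen6 y).subtype).comp e.symm.toMonoidHom
  have hψ : ∀ i < 6, ψ (x i) = m i := fun i hi => by
    have : e.symm (x i) = ⟨y i, subset_closure ⟨i, hi, rfl⟩⟩ := e.symm_apply_eq.2 rfl
    show ((e.symm (x i) : gen6 y) : C × M).2 = m i
    rw [this]
  refine ⟨ψ, (MonoidHom.ker_eq_bot_iff ψ).1 (normal_eq_bot h ht htc fun hk => hz ?_), hψ⟩
  rw [MonoidHom.mem_ker, ← hx.pair 0 1 (by norm_num) (by norm_num) (by norm_num)] at hk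
  simp only [map_mul, hψ 0 (by norm_num), hψ 1 (by norm_num)] at hk
  rw [← hm.pair 0 1 (by norm_num) (by norm_num) (by norm_num)]
  exact hk

end CfsgLib.Recog.McLCent
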