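import Mathlib
import Cfsg.Agent.Lib.Schur.PermChain
import Cfsg.Agent.Lib.Recog.Held.Count

set_option autoImplicit false

/-!
Products of packed permutations of 275 points (owner: helper25).
-/

namespace CfsgLib.Recog.McLCent

open CfsgLib.Schur.Cert (pgetN RepN)

/-- The images of the last `k` points, read backwards. -/
noncomputable def pmulAux (p q : ℕ) : ℕ → ℕ
  | 0 => 0
  | k + 1 => Nat.add (Nat.mul 1024 (pmulAux p q k)) (pgetN p (pgetN q (274 - k)))

/-- The product of packed permutations of 275 points. -/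
noncomputable def pmul (p q : ℕ) : ℕ := pmulAux p q 275

theorem pgetN_eq (p i : ℕ) : pgetN p i = p / 2 ^ (10 * i) % 1024 := by
  show (p >>> (10 * i)) &&& (2 ^ 10 - 1) = _
  rw [Nat.and_two_pow_sub_one_eq_mod, Nat.shiftRight_eq_div_pow]

theorem pgetN_lt (p i : ℕ) : pgetN p i < 1024 := by
  rw [pgetN_eq]; exact Nat.mod_lt _ (by norm_num)

theorem pgetN_pmulAux (p q : ℕ) : ∀ k, k ≤ 275 → ∀ j, j < k →
    pgetN (pmulAux p q k) j = pgetN p (pgetN q (275 - k + j))
  | 0, _, _, h => absurd h (Nat.not_lt_zero _)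
  | k + 1, hk, j, hj => by
    have hb := pgetN_lt p (pgetN q (274 - k))
    rw [pgetN_eq, show pmulAux p q (k + 1) = 1024 * pmulAux p q k + pgetN p (pgetN q (274 - k)) from rfl]
    rcases j with _ | j
    · rw [Nat.mul_zero, pow_zero, Nat.div_one, Nat.mul_add_mod, Nat.mod_eq_of_lt hb,
        show 275 - (k + 1) + 0 = 274 - k by omega]
    · rw [Nat.mul_succ, pow_add, Nat.mul_comm (2 ^ (10 * j)), ← Nat.div_div_eq_div_mul,
        show (2 : ℕ) ^ 10 = 1024 by norm_num, Nat.mul_add_div (by norm_num), Nat.div_eq_of_lt hb, Nat.add_zero,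
        ← pgetN_eq, pgetN_pmulAux p q k (by omega) j (by omega),
        show 275 - (k + 1) + (j + 1) = 275 - k + j by omega]

theorem pgetN_pmul (p q : ℕ) {i : ℕ} (hi : i < 275) : pgetN (pmul p q) i = pgetN p (pgetN q i) := by
  rw [pmul, pgetN_pmulAux p q 275 le_rfl i hi, Nat.sub_self, Nat.zero_add]

theorem repN_pmul {σ τ : Equiv.Perm (Fin 275)} {p q : ℕ} (h1 : RepN σ p) (h2 : RepN τ q) :
    RepN (σ * τ) (pmul p q) := fun x => by
  rw [Equiv.Perm.mul_apply, ← h1, ← h2, pgetN_pmul p q x.2]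

theorem repN_unique {σ τ : Equiv.Perm (Fin 275)} {p : ℕ} (h1 : RepN σ p) (h2 : RepN τ p) : σ = τ :=
  Equiv.ext fun x => Fin.ext ((h1 x).symm.trans (h2 x))

/-- The value of a word in packed permutations. -/
noncomputable def pk (P : ℕ → ℕ) (one : ℕ) : List ℕ → ℕ
  | [] => one
  | j :: w => pmul (P j) (pk P one w)

theorem repN_pk {P : ℕ → ℕ} {one : ℕ} {a : ℕ → Equiv.Perm (Fin 275)} (h1 : RepN (1 : Equiv.Perm (Fin 275)) one)
    (ha : ∀ j, RepN (a j) (P j)) : ∀ w : List ℕ, RepN (w.map a).prod (pk P one w)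
  | [] => h1
  | j :: w => by
    rw [List.map_cons, List.prod_cons]
    exact repN_pmul (ha j) (repN_pk h1 ha w)

/-- The number of agreement on the first 275 points. -/
noncomputable def pEq (p q : ℕ) : Bool :=
  CfsgLib.Recog.Held.allBelow 275 fun i => Nat.beq (pgetN p i) (pgetN q i)

theorem eq_of_pEq {σ τ : Equiv.Perm (Fin 275)} {p q : ℕ} (h1 : RepN σ p) (h2 : RepN τ q)
    (h : pEq p q = true) : σ = τ := by
  simp only [pEq, CfsgLib.Recog.Held.allBelow_spec, Nat.beq_eq] at h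
  exact Equiv.ext fun x => Fin.ext (((h1 x).symm.trans (h x x.2)).trans (h2 x))

theorem pEq_of_eq {σ : Equiv.Perm (Fin 275)} {p q : ℕ} (h1 : RepN σ p) (h2 : RepN σ q) : pEq p q = true := by
  simp only [pEq, CfsgLib.Recog.Held.allBelow_spec, Nat.beq_eq]
  exact fun i hi => (h1 ⟨i, hi⟩).trans (h2 ⟨i, hi⟩).symm

end CfsgLib.Recog.McLCent
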